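import Cfsg.Agent.Lib.Spor.Cos.Suz.Order
import Cfsg.Agent.Lib.Spor.Cos.Suz.SaPart
import Cfsg.Agent.Lib.Spor.Cos.Suz.Sa0
import Cfsg.Agent.Lib.Spor.Cos.Suz.Sa1

/-! Data and checks for a presented sporadic group. -/

set_option autoImplicit false
set_option maxRecDepth 100000
set_option maxHeartbeats 4000000

open Cfsg.Spor

namespace Cfsg.Agent.Spor.Cos.Suz

theorem saList_ok : ∀ o ∈ saList, o.1.Ok actA lv1W o.2 ∧ ∀ j < o.1.m, o.1.chkClosed actA lv1W j = true := by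
  intro o ho
  simp only [saList, List.mem_cons, List.not_mem_nil, or_false] at ho
  rcases ho with rfl | rfl
  · exact ⟨sa0_ok, sa0_closed⟩
  · exact ⟨sa1_ok, sa1_closed⟩

theorem isSimple : IsSimpleGroup Spor.Suz := by
  have := finite
  refine isSimpleGroup_of (p := 11) (W := [[0, 5, 0, 2, 5, 3, 0, 3, 5, 3, 0, 0, 6, 0, 1, 4], [1, 6, 0, 1, 6, 1, 2, 0, 4, 5, 3], [1, 0, 6, 1, 6, 2, 6, 5, 2, 2, 1, 4, 3, 6], [2, 1, 4, 0, 6, 0, 0, 5, 3, 0, 1, 6, 2, 1, 3], [5, 0, 4, 2, 1, 6, 5, 4, 2, 3, 0, 4, 2, 3, 2, 1], [3, 1, 5, 1, 0, 1, 2, 6, 4, 3, 1, 4], [3, 1, 5, 4, 3, 3, 2, 1, 6, 0, 1]]) homA g_gen det trA (by decide +kernel) stabA saList_ok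
    sa_partition (by decide +kernel) (by norm_num) ?_ (by decide +kernel)
  rw [card_stab trA (k := 251596800) card_eq]
  decide +kernel

end Cfsg.Agent.Spor.Cos.Suz
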