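import Cfsg.Agent.Lib.Spor.Cos.Suz.LowPart0

/-! A checked coset enumeration. -/

set_option autoImplicit false
set_option maxRecDepth 100000
set_option maxHeartbeats 4000000

namespace Cfsg.Agent.Spor.Cos.Suz

theorem low_def0 : allBlock low.chkDef 1300 512 0 = true := by decide +kernel

theorem low_def1 : allBlock low.chkDef 1300 512 1 = true := by decide +kernel

theorem low_def2 : allBlock low.chkDef 1300 512 2 = true := by decide +kernel

theorem low_defs : ∀ i, i + 1 < low.M → low.chkDef i = true := by
  intro i hi
  change i + 1 < 1301 at hi
  refine of_allBlock (n := 1300) (size := 512) (by decide) (fun j hj => ?_) (by omega)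
  have hj' : j < 3 := by omega
  interval_cases j
  · exact low_def0
  · exact low_def1
  · exact low_def2

theorem low_facts : ∀ i, low.M ≤ i + 1 → i < low.nF → ∃ J, low.chkFact i J = true := by
  exact low.facts_of_covers (Log.Covers.trans low (low.covers_of_part _ _ _ low_part0) (Log.Covers.trans low (low.covers_of_part _ _ _ low_part1) (low.covers_of_part _ _ _ low_part2))) rfl rfl

theorem low_final0 : allBlock low.chkFinal 864 512 0 = true := by decide +kernel

theorem low_final1 : allBlock low.chkFinal 864 512 1 = true := by decide +kernel

theorem low_checks : low.Checks where
  pos := by decide +kernel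
  defs := low_defs
  facts := low_facts
  final := by
    intro k hk
    change k < 216 * 4 at hk
    refine of_allBlock (n := 864) (size := 512) (by decide) (fun j hj => ?_) (by omega)
    have hj' : j < 2 := by omega
    interval_cases j
    · exact low_final0
    · exact low_final1

theorem low_derived : low.rels.all (derivedOk low.n lowBase) = true := by decide +kernel

end Cfsg.Agent.Spor.Cos.Suz
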