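import Cfsg.Agent.Lib.Spor.Cos.Suz.ActARel0

/-! Data and checks for a presented sporadic group. -/

set_option autoImplicit false
set_option maxRecDepth 100000
set_option maxHeartbeats 4000000

namespace Cfsg.Agent.Spor.Cos.Suz

theorem actA_rels : ∀ i < 1782, (actA.chkFix words) i = true :=
  of_blocks (size := 256) (b := 7) (by decide) (by decide) fun j hj => by
    interval_cases j
    · exact actA_rels0
    · exact actA_rels1
    · exact actA_rels2
    · exact actA_rels3
    · exact actA_rels4
    · exact actA_rels5
    · exact actA_rels6

end Cfsg.Agent.Spor.Cos.Suz
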