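import Cfsg.Agent.Lib.Spor.Cos.Suz.DihPart0

/-! A checked coset enumeration. -/

set_option autoImplicit false
set_option maxRecDepth 100000
set_option maxHeartbeats 4000000

namespace Cfsg.Agent.Spor.Cos.Suz

theorem dih_def0 : allBlock dih.chkDef 9 512 0 = true := by decide +kernel

theorem dih_defs : ∀ i, i + 1 < dih.M → dih.chkDef i = true := by
  intro i hi
  change i + 1 < 10 at hi
  refine of_allBlock (n := 9) (size := 512) (by decide) (fun j hj => ?_) (by omega)
  have hj' : j < 1 := by omega
  interval_cases j
  · exact dih_def0

theorem dih_facts : ∀ i, dih.M ≤ i + 1 → i < dih.nF → ∃ J, dih.chkFact i J = true := by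
  exact dih.facts_of_covers (dih.covers_of_part _ _ _ dih_part0) rfl rfl

theorem dih_final0 : allBlock dih.chkFinal 20 512 0 = true := by decide +kernel

theorem dih_checks : dih.Checks where
  pos := by decide +kernel
  defs := dih_defs
  facts := dih_facts
  final := by
    intro k hk
    change k < 10 * 2 at hk
    refine of_allBlock (n := 20) (size := 512) (by decide) (fun j hj => ?_) (by omega)
    have hj' : j < 1 := by omega
    interval_cases j
    · exact dih_final0

theorem dih_derived : dih.rels.all (derivedOk dih.n dihBase) = true := by decide +kernel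

end Cfsg.Agent.Spor.Cos.Suz
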