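import Cfsg.Agent.Lib.Spor.Cos.Suz.G24Part0

/-! A checked coset enumeration. -/

set_option autoImplicit false
set_option maxRecDepth 100000
set_option maxHeartbeats 4000000

namespace Cfsg.Agent.Spor.Cos.Suz

theorem g24_def0 : allBlock g24.chkDef 757 512 0 = true := by decide +kernel

theorem g24_def1 : allBlock g24.chkDef 757 512 1 = true := by decide +kernel

theorem g24_defs : ∀ i, i + 1 < g24.M → g24.chkDef i = true := by
  intro i hi
  change i + 1 < 758 at hi
  refine of_allBlock (n := 757) (size := 512) (by decide) (fun j hj => ?_) (by omega)
  have hj' : j < 2 := by omega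
  interval_cases j
  · exact g24_def0
  · exact g24_def1

theorem g24_facts : ∀ i, g24.M ≤ i + 1 → i < g24.nF → ∃ J, g24.chkFact i J = true := by
  exact g24.facts_of_covers (Log.Covers.trans g24 (g24.covers_of_part _ _ _ g24_part0) (Log.Covers.trans g24 (g24.covers_of_part _ _ _ g24_part1) (g24.covers_of_part _ _ _ g24_part2))) rfl rfl

theorem g24_final0 : allBlock g24.chkFinal 2496 512 0 = true := by decide +kernel

theorem g24_final1 : allBlock g24.chkFinal 2496 512 1 = true := by decide +kernel

theorem g24_final2 : allBlock g24.chkFinal 2496 512 2 = true := by decide +kernel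

theorem g24_final3 : allBlock g24.chkFinal 2496 512 3 = true := by decide +kernel

theorem g24_final4 : allBlock g24.chkFinal 2496 512 4 = true := by decide +kernel

theorem g24_checks : g24.Checks where
  pos := by decide +kernel
  defs := g24_defs
  facts := g24_facts
  final := by
    intro k hk
    change k < 416 * 6 at hk
    refine of_allBlock (n := 2496) (size := 512) (by decide) (fun j hj => ?_) (by omega)
    have hj' : j < 5 := by omega
    interval_cases j
    · exact g24_final0
    · exact g24_final1
    · exact g24_final2
    · exact g24_final3
    · exact g24_final4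

theorem g24_derived : g24.rels.all (derivedOk g24.n g24Base) = true := by decide +kernel

end Cfsg.Agent.Spor.Cos.Suz
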