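import Cfsg.Agent.Lib.Spor.Cos.Suz.J2Part0

/-! A checked coset enumeration. -/

set_option autoImplicit false
set_option maxRecDepth 100000
set_option maxHeartbeats 4000000

namespace Cfsg.Agent.Spor.Cos.Suz

theorem j2_def0 : allBlock j2.chkDef 1159 512 0 = true := by decide +kernel

theorem j2_def1 : allBlock j2.chkDef 1159 512 1 = true := by decide +kernel

theorem j2_def2 : allBlock j2.chkDef 1159 512 2 = true := by decide +kernel

theorem j2_defs : ∀ i, i + 1 < j2.M → j2.chkDef i = true := by
  intro i hi
  change i + 1 < 1160 at hi
  refine of_allBlock (n := 1159) (size := 512) (by decide) (fun j hj => ?_) (by omega)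
  have hj' : j < 3 := by omega
  interval_cases j
  · exact j2_def0
  · exact j2_def1
  · exact j2_def2

theorem j2_facts : ∀ i, j2.M ≤ i + 1 → i < j2.nF → ∃ J, j2.chkFact i J = true := by
  exact j2.facts_of_covers (Log.Covers.trans j2 (j2.covers_of_part _ _ _ j2_part0) (Log.Covers.trans j2 (j2.covers_of_part _ _ _ j2_part1) (j2.covers_of_part _ _ _ j2_part2))) rfl rfl

theorem j2_final0 : allBlock j2.chkFinal 1400 512 0 = true := by decide +kernel

theorem j2_final1 : allBlock j2.chkFinal 1400 512 1 = true := by decide +kernel

theorem j2_final2 : allBlock j2.chkFinal 1400 512 2 = true := by decide +kernel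

theorem j2_checks : j2.Checks where
  pos := by decide +kernel
  defs := j2_defs
  facts := j2_facts
  final := by
    intro k hk
    change k < 280 * 5 at hk
    refine of_allBlock (n := 1400) (size := 512) (by decide) (fun j hj => ?_) (by omega)
    have hj' : j < 3 := by omega
    interval_cases j
    · exact j2_final0
    · exact j2_final1
    · exact j2_final2

theorem j2_derived : j2.rels.all (derivedOk j2.n j2Base) = true := by decide +kernel

end Cfsg.Agent.Spor.Cos.Suz
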