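import Cfsg.Agent.Lib.Spor.Cos.Suz.TopPart0
import Cfsg.Agent.Lib.Spor.Cos.Suz.TopPart1
import Cfsg.Agent.Lib.Spor.Cos.Suz.TopPart2

/-! A checked coset enumeration. -/

set_option autoImplicit false
set_option maxRecDepth 100000
set_option maxHeartbeats 4000000

namespace Cfsg.Agent.Spor.Cos.Suz

theorem top_def0 : allBlock top.chkDef 7894 512 0 = true := by decide +kernel

theorem top_def1 : allBlock top.chkDef 7894 512 1 = true := by decide +kernel

theorem top_def2 : allBlock top.chkDef 7894 512 2 = true := by decide +kernel

theorem top_def3 : allBlock top.chkDef 7894 512 3 = true := by decide +kernel

theorem top_def4 : allBlock top.chkDef 7894 512 4 = true := by decide +kernel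

theorem top_def5 : allBlock top.chkDef 7894 512 5 = true := by decide +kernel

theorem top_def6 : allBlock top.chkDef 7894 512 6 = true := by decide +kernel

theorem top_def7 : allBlock top.chkDef 7894 512 7 = true := by decide +kernel

theorem top_def8 : allBlock top.chkDef 7894 512 8 = true := by decide +kernel

theorem top_def9 : allBlock top.chkDef 7894 512 9 = true := by decide +kernel

theorem top_def10 : allBlock top.chkDef 7894 512 10 = true := by decide +kernel

theorem top_def11 : allBlock top.chkDef 7894 512 11 = true := by decide +kernel

theorem top_def12 : allBlock top.chkDef 7894 512 12 = true := by decide +kernel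

theorem top_def13 : allBlock top.chkDef 7894 512 13 = true := by decide +kernel

theorem top_def14 : allBlock top.chkDef 7894 512 14 = true := by decide +kernel

theorem top_def15 : allBlock top.chkDef 7894 512 15 = true := by decide +kernel

theorem top_defs : ∀ i, i + 1 < top.M → top.chkDef i = true := by
  intro i hi
  change i + 1 < 7895 at hi
  refine of_allBlock (n := 7894) (size := 512) (by decide) (fun j hj => ?_) (by omega)
  have hj' : j < 16 := by omega
  interval_cases j
  · exact top_def0
  · exact top_def1
  · exact top_def2
  · exact top_def3
  · exact top_def4
  · exact top_def5
  · exact top_def6
  · exact top_def7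
  · exact top_def8
  · exact top_def9
  · exact top_def10
  · exact top_def11
  · exact top_def12
  · exact top_def13
  · exact top_def14
  · exact top_def15

theorem top_facts : ∀ i, top.M ≤ i + 1 → i < top.nF → ∃ J, top.chkFact i J = true := by
  exact top.facts_of_covers (Log.Covers.trans top (Log.Covers.trans top (Log.Covers.trans top (Log.Covers.trans top (top.covers_of_part _ _ _ top_part0) (Log.Covers.trans top (top.covers_of_part _ _ _ top_part1) (top.covers_of_part _ _ _ top_part2))) (Log.Covers.trans top (top.covers_of_part _ _ _ top_part3) (Log.Covers.trans top (top.covers_of_part _ _ _ top_part4) (top.covers_of_part _ _ _ top_part5)))) (Log.Covers.trans top (Log.Covers.trans top (top.covers_of_part _ _ _ top_part6) (Log.Covers.trans top (top.covers_of_part _ _ _ top_part7) (top.covers_of_part _ _ _ top_part8))) (Log.Covers.trans top (Log.Covers.trans top (top.covers_of_part _ _ _ top_part9) (top.covers_of_part _ _ _ top_part10)) (Log.Covers.trans top (top.covers_of_part _ _ _ top_part11) (top.covers_of_part _ _ _ top_part12))))) (Log.Covers.trans top (Log.Covers.trans top (Log.Covers.trans top (top.covers_of_part _ _ _ top_part13) (Log.Covers.trans top (top.covers_of_part _ _ _ top_part14) (top.covers_of_part _ _ _ top_part15)))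 (Log.Covers.trans top (top.covers_of_part _ _ _ top_part16) (Log.Covers.trans top (top.covers_of_part _ _ _ top_part17) (top.covers_of_part _ _ _ top_part18)))) (Log.Covers.trans top (Log.Covers.trans top (top.covers_of_part _ _ _ top_part19) (Log.Covers.trans top (top.covers_of_part _ _ _ top_part20) (top.covers_of_part _ _ _ top_part21))) (Log.Covers.trans top (Log.Covers.trans top (top.covers_of_part _ _ _ top_part22) (top.covers_of_part _ _ _ top_part23)) (Log.Covers.trans top (top.covers_of_part _ _ _ top_part24) (top.covers_of_part _ _ _ top_part25)))))) rfl rfl

theorem top_final0 : allBlock top.chkFinal 12474 512 0 = true := by decide +kernel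

theorem top_final1 : allBlock top.chkFinal 12474 512 1 = true := by decide +kernel

theorem top_final2 : allBlock top.chkFinal 12474 512 2 = true := by decide +kernel

theorem top_final3 : allBlock top.chkFinal 12474 512 3 = true := by decide +kernel

theorem top_final4 : allBlock top.chkFinal 12474 512 4 = true := by decide +kernel

theorem top_final5 : allBlock top.chkFinal 12474 512 5 = true := by decide +kernel

theorem top_final6 : allBlock top.chkFinal 12474 512 6 = true := by decide +kernel

theorem top_final7 : allBlock top.chkFinal 12474 512 7 = true := by decide +kernel

theorem top_final8 : allBlock top.chkFinal 12474 512 8 = true := by decide +kernel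

theorem top_final9 : allBlock top.chkFinal 12474 512 9 = true := by decide +kernel

theorem top_final10 : allBlock top.chkFinal 12474 512 10 = true := by decide +kernel

theorem top_final11 : allBlock top.chkFinal 12474 512 11 = true := by decide +kernel

theorem top_final12 : allBlock top.chkFinal 12474 512 12 = true := by decide +kernel

theorem top_final13 : allBlock top.chkFinal 12474 512 13 = true := by decide +kernel

theorem top_final14 : allBlock top.chkFinal 12474 512 14 = true := by decide +kernel

theorem top_final15 : allBlock top.chkFinal 12474 512 15 = true := by decide +kernel

theorem top_final16 : allBlock top.chkFinal 12474 512 16 = true := by decide +kernel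

theorem top_final17 : allBlock top.chkFinal 12474 512 17 = true := by decide +kernel

theorem top_final18 : allBlock top.chkFinal 12474 512 18 = true := by decide +kernel

theorem top_final19 : allBlock top.chkFinal 12474 512 19 = true := by decide +kernel

theorem top_final20 : allBlock top.chkFinal 12474 512 20 = true := by decide +kernel

theorem top_final21 : allBlock top.chkFinal 12474 512 21 = true := by decide +kernel

theorem top_final22 : allBlock top.chkFinal 12474 512 22 = true := by decide +kernel

theorem top_final23 : allBlock top.chkFinal 12474 512 23 = true := by decide +kernel

theorem top_final24 : allBlock top.chkFinal 12474 512 24 = true := by decide +kernel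

theorem top_checks : top.Checks where
  pos := by decide +kernel
  defs := top_defs
  facts := top_facts
  final := by
    intro k hk
    change k < 1782 * 7 at hk
    refine of_allBlock (n := 12474) (size := 512) (by decide) (fun j hj => ?_) (by omega)
    have hj' : j < 25 := by omega
    interval_cases j
    · exact top_final0
    · exact top_final1
    · exact top_final2
    · exact top_final3
    · exact top_final4
    · exact top_final5
    · exact top_final6
    · exact top_final7
    · exact top_final8
    · exact top_final9
    · exact top_final10
    · exact top_final11
    · exact top_final12
    · exact top_final13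
    · exact top_final14
    · exact top_final15
    · exact top_final16
    · exact top_final17
    · exact top_final18
    · exact top_final19
    · exact top_final20
    · exact top_final21
    · exact top_final22
    · exact top_final23
    · exact top_final24

theorem top_derived : top.rels.all (derivedOk top.n topBase) = true := by decide +kernel

end Cfsg.Agent.Spor.Cos.Suz
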