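import Cfsg.Agent.Lib.Spor.Cos.Suz.Words
import Cfsg.Agent.Lib.Spor.Cos.Cox
import Cfsg.Agent.Lib.Spor.Cos.Orb
import Cfsg.Prelude.Def_Spor_Suz
import Cfsg.Agent.Lib.Spor.Cos.Suz.TopCert
import Cfsg.Agent.Lib.Spor.Cos.Suz.G24Cert
import Cfsg.Agent.Lib.Spor.Cos.Suz.J2Cert
import Cfsg.Agent.Lib.Spor.Cos.Suz.LowCert
import Cfsg.Agent.Lib.Spor.Cos.Suz.DihCert

/-! Data and checks for a presented sporadic group. -/

set_option autoImplicit false
set_option maxRecDepth 100000
set_option maxHeartbeats 4000000

open Cfsg.Spor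

namespace Cfsg.Agent.Spor.Cos.Suz

/-- The generators in order. -/
def alph : List Spor.Suz.Gen := [.a, .b, .c, .d, .e, .f, .g]

/-- The place of a generator. -/
def num : Spor.Suz.Gen → ℕ
  | .a => 0
  | .b => 1
  | .c => 2
  | .d => 3
  | .e => 4
  | .f => 5
  | .g => 6

theorem pres : Pres Spor.Suz.edges Spor.Suz.extra alph num words where
  index := by intro a; cases a <;> rfl
  node := by intro a; cases a <;> decide
  order := rfl
  fromRels := by decide +kernel
  toBase := by decide +kernel

/-- The generators by number. -/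
noncomputable def g : ℕ → Spor.Suz := gen Spor.Suz.edges Spor.Suz.extra alph

theorem g_sq (s : ℕ) : g s * g s = 1 := pres.inv s

theorem g_words : ∀ w ∈ words, ev g w = 1 := fun _ hw => pres.ev_base hw

theorem g_gen : Subgroup.closure {x | ∃ s < 7, g s = x} = ⊤ := pres.closure_gen

theorem upper : Finite Spor.Suz ∧ Nat.card Spor.Suz ≤ 448345497600 := by
  have h0 : Bound g [] 1 := Bound.nil
  have h1 : Bound g [0, 1] 10 :=
    Bound.step (d := 7) g_sq h0 dih dih_checks rfl (by decide +kernel)
      (hbase_of g_sq g_words (n := 7) (by decide +kernel)) dih_derived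
  have h2 : Bound g [0, 1, 2, 3] 2160 :=
    Bound.step (d := 7) g_sq h1 low low_checks rfl (by decide +kernel)
      (hbase_of g_sq g_words (n := 7) (by decide +kernel)) low_derived
  have h3 : Bound g [0, 1, 2, 3, 4] 604800 :=
    Bound.step (d := 7) g_sq h2 j2 j2_checks rfl (by decide +kernel)
      (hbase_of g_sq g_words (n := 7) (by decide +kernel)) j2_derived
  have h4 : Bound g [0, 1, 2, 3, 4, 5] 251596800 :=
    Bound.step (d := 7) g_sq h3 g24 g24_checks rfl (by decide +kernel)
      (hbase_of g_sq g_words (n := 7) (by decide +kernel)) g24_derived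
  have h5 : Bound g [0, 1, 2, 3, 4, 5, 6] 448345497600 :=
    Bound.step (d := 7) g_sq h4 top top_checks rfl (by decide +kernel)
      (hbase_of g_sq g_words (n := 7) (by decide +kernel)) top_derived
  exact Bound.top (n := 7) h5 g_gen

theorem finite : Finite Spor.Suz := upper.1

end Cfsg.Agent.Spor.Cos.Suz
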