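import Cfsg.Agent.Lib.Spor.Cos.Suz.ActBData

/-! Data and checks for a presented sporadic group. -/

set_option autoImplicit false
set_option maxRecDepth 100000
set_option maxHeartbeats 4000000

namespace Cfsg.Agent.Spor.Cos.Suz

theorem actB_inv16 : allBlock (actB.chkInv) 22880 1024 16 = true := by decide +kernel

theorem actB_inv17 : allBlock (actB.chkInv) 22880 1024 17 = true := by decide +kernel

theorem actB_inv18 : allBlock (actB.chkInv) 22880 1024 18 = true := by decide +kernel

theorem actB_inv19 : allBlock (actB.chkInv) 22880 1024 19 = true := by decide +kernel

theorem actB_inv20 : allBlock (actB.chkInv) 22880 1024 20 = true := by decide +kernel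

theorem actB_inv21 : allBlock (actB.chkInv) 22880 1024 21 = true := by decide +kernel

theorem actB_inv22 : allBlock (actB.chkInv) 22880 1024 22 = true := by decide +kernel


end Cfsg.Agent.Spor.Cos.Suz
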