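import Cfsg.Agent.Lib.Spor.Cos.Suz.ActBInv0
import Cfsg.Agent.Lib.Spor.Cos.Suz.ActBInv1

/-! Data and checks for a presented sporadic group. -/

set_option autoImplicit false
set_option maxRecDepth 100000
set_option maxHeartbeats 4000000

namespace Cfsg.Agent.Spor.Cos.Suz

theorem actB_inv : ∀ i < 22880, (actB.chkInv) i = true :=
  of_blocks (size := 1024) (b := 23) (by decide) (by decide) fun j hj => by
    interval_cases j
    · exact actB_inv0
    · exact actB_inv1
    · exact actB_inv2
    · exact actB_inv3
    · exact actB_inv4
    · exact actB_inv5
    · exact actB_inv6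
    · exact actB_inv7
    · exact actB_inv8
    · exact actB_inv9
    · exact actB_inv10
    · exact actB_inv11
    · exact actB_inv12
    · exact actB_inv13
    · exact actB_inv14
    · exact actB_inv15
    · exact actB_inv16
    · exact actB_inv17
    · exact actB_inv18
    · exact actB_inv19
    · exact actB_inv20
    · exact actB_inv21
    · exact actB_inv22

end Cfsg.Agent.Spor.Cos.Suz
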