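import Cfsg.Agent.Lib.Spor.Cos.Suz.ActBData
import Cfsg.Agent.Lib.Spor.Cos.Suz.Words

/-! Data and checks for a presented sporadic group. -/

set_option autoImplicit false
set_option maxRecDepth 100000
set_option maxHeartbeats 4000000

namespace Cfsg.Agent.Spor.Cos.Suz

theorem actB_rels36 : allBlock (actB.chkFix words) 22880 256 36 = true := by decide +kernel

theorem actB_rels37 : allBlock (actB.chkFix words) 22880 256 37 = true := by decide +kernel

theorem actB_rels38 : allBlock (actB.chkFix words) 22880 256 38 = true := by decide +kernel

theorem actB_rels39 : allBlock (actB.chkFix words) 22880 256 39 = true := by decide +kernel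

theorem actB_rels40 : allBlock (actB.chkFix words) 22880 256 40 = true := by decide +kernel

theorem actB_rels41 : allBlock (actB.chkFix words) 22880 256 41 = true := by decide +kernel

theorem actB_rels42 : allBlock (actB.chkFix words) 22880 256 42 = true := by decide +kernel

theorem actB_rels43 : allBlock (actB.chkFix words) 22880 256 43 = true := by decide +kernel

theorem actB_rels44 : allBlock (actB.chkFix words) 22880 256 44 = true := by decide +kernel

theorem actB_rels45 : allBlock (actB.chkFix words) 22880 256 45 = true := by decide +kernel

theorem actB_rels46 : allBlock (actB.chkFix words) 22880 256 46 = true := by decide +kernel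

theorem actB_rels47 : allBlock (actB.chkFix words) 22880 256 47 = true := by decide +kernel


end Cfsg.Agent.Spor.Cos.Suz
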