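import Cfsg.Agent.Lib.Spor.Cos.Suz.ActBData
import Cfsg.Agent.Lib.Spor.Cos.Suz.Words

/-! Data and checks for a presented sporadic group. -/

set_option autoImplicit false
set_option maxRecDepth 100000
set_option maxHeartbeats 4000000

namespace Cfsg.Agent.Spor.Cos.Suz

theorem actB_rels72 : allBlock (actB.chkFix words) 22880 256 72 = true := by decide +kernel

theorem actB_rels73 : allBlock (actB.chkFix words) 22880 256 73 = true := by decide +kernel

theorem actB_rels74 : allBlock (actB.chkFix words) 22880 256 74 = true := by decide +kernel

theorem actB_rels75 : allBlock (actB.chkFix words) 22880 256 75 = true := by decide +kernel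

theorem actB_rels76 : allBlock (actB.chkFix words) 22880 256 76 = true := by decide +kernel

theorem actB_rels77 : allBlock (actB.chkFix words) 22880 256 77 = true := by decide +kernel

theorem actB_rels78 : allBlock (actB.chkFix words) 22880 256 78 = true := by decide +kernel

theorem actB_rels79 : allBlock (actB.chkFix words) 22880 256 79 = true := by decide +kernel

theorem actB_rels80 : allBlock (actB.chkFix words) 22880 256 80 = true := by decide +kernel

theorem actB_rels81 : allBlock (actB.chkFix words) 22880 256 81 = true := by decide +kernel

theorem actB_rels82 : allBlock (actB.chkFix words) 22880 256 82 = true := by decide +kernel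

theorem actB_rels83 : allBlock (actB.chkFix words) 22880 256 83 = true := by decide +kernel


end Cfsg.Agent.Spor.Cos.Suz
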