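import Cfsg.Agent.Lib.Spor.Cos.Suz.ActBRel0
import Cfsg.Agent.Lib.Spor.Cos.Suz.ActBRel1
import Cfsg.Agent.Lib.Spor.Cos.Suz.ActBRel2
import Cfsg.Agent.Lib.Spor.Cos.Suz.ActBRel3
import Cfsg.Agent.Lib.Spor.Cos.Suz.ActBRel4
import Cfsg.Agent.Lib.Spor.Cos.Suz.ActBRel5
import Cfsg.Agent.Lib.Spor.Cos.Suz.ActBRel6
import Cfsg.Agent.Lib.Spor.Cos.Suz.ActBRel7

/-! Data and checks for a presented sporadic group. -/

set_option autoImplicit false
set_option maxRecDepth 100000
set_option maxHeartbeats 4000000

namespace Cfsg.Agent.Spor.Cos.Suz

theorem actB_rels : ∀ i < 22880, (actB.chkFix words) i = true :=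
  of_blocks (size := 256) (b := 90) (by decide) (by decide) fun j hj => by
    interval_cases j
    · exact actB_rels0
    · exact actB_rels1
    · exact actB_rels2
    · exact actB_rels3
    · exact actB_rels4
    · exact actB_rels5
    · exact actB_rels6
    · exact actB_rels7
    · exact actB_rels8
    · exact actB_rels9
    · exact actB_rels10
    · exact actB_rels11
    · exact actB_rels12
    · exact actB_rels13
    · exact actB_rels14
    · exact actB_rels15
    · exact actB_rels16
    · exact actB_rels17
    · exact actB_rels18
    · exact actB_rels19
    · exact actB_rels20
    · exact actB_rels21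
    · exact actB_rels22
    · exact actB_rels23
    · exact actB_rels24
    · exact actB_rels25
    · exact actB_rels26
    · exact actB_rels27
    · exact actB_rels28
    · exact actB_rels29
    · exact actB_rels30
    · exact actB_rels31
    · exact actB_rels32
    · exact actB_rels33
    · exact actB_rels34
    · exact actB_rels35
    · exact actB_rels36
    · exact actB_rels37
    · exact actB_rels38
    · exact actB_rels39
    · exact actB_rels40
    · exact actB_rels41
    · exact actB_rels42
    · exact actB_rels43
    · exact actB_rels44
    · exact actB_rels45
    · exact actB_rels46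
    · exact actB_rels47
    · exact actB_rels48
    · exact actB_rels49
    · exact actB_rels50
    · exact actB_rels51
    · exact actB_rels52
    · exact actB_rels53
    · exact actB_rels54
    · exact actB_rels55
    · exact actB_rels56
    · exact actB_rels57
    · exact actB_rels58
    · exact actB_rels59
    · exact actB_rels60
    · exact actB_rels61
    · exact actB_rels62
    · exact actB_rels63
    · exact actB_rels64
    · exact actB_rels65
    · exact actB_rels66
    · exact actB_rels67
    · exact actB_rels68
    · exact actB_rels69
    · exact actB_rels70
    · exact actB_rels71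
    · exact actB_rels72
    · exact actB_rels73
    · exact actB_rels74
    · exact actB_rels75
    · exact actB_rels76
    · exact actB_rels77
    · exact actB_rels78
    · exact actB_rels79
    · exact actB_rels80
    · exact actB_rels81
    · exact actB_rels82
    · exact actB_rels83
    · exact actB_rels84
    · exact actB_rels85
    · exact actB_rels86
    · exact actB_rels87
    · exact actB_rels88
    · exact actB_rels89

end Cfsg.Agent.Spor.Cos.Suz
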