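import Cfsg.Agent.Lib.Spor.Cos.Log

/-!
Data of a coset enumeration with 10 cosets.
-/

set_option autoImplicit false
set_option maxRecDepth 100000
set_option maxHeartbeats 4000000

namespace Cfsg.Agent.Spor.Cos.Suz

def dihFactsT0 : Tree := .leaf 0x10000800009000009000070000080000610000700005100006000040000050000300000400002100003000011000020000000000100000

/-- The table dihFacts. -/
def dihFacts : Table := ⟨dihFactsT0, 0, 44, 6⟩

def dihFinalT0 : Tree := .leaf 0x9000044000260000f00006800040000160000e000060000240001400007000028000200000600006000020000040000400000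

/-- The table dihFinal. -/
def dihFinal : Table := ⟨dihFinalT0, 0, 21, 6⟩

/-- The base words of `dih`. -/
def dihBase : List (List ℕ) := [[0, 1, 0, 1, 0, 1, 0, 1, 0, 1]]

/-- The certificate `dih`. -/
def dih : Log where
  n := 2
  N := 10
  M := 10
  nF := 10
  facts := dihFacts
  final := dihFinal
  rels := [[0, 1, 0, 1, 0, 1, 0, 1, 0, 1]]
  sub := []

end Cfsg.Agent.Spor.Cos.Suz
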