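import Cfsg.Agent.Lib.Spor.Cos.Orb

/-! Data and checks for a presented sporadic group. -/

set_option autoImplicit false
set_option maxRecDepth 100000
set_option maxHeartbeats 4000000

namespace Cfsg.Agent.Spor.Cos.Suz

def lv3EB0 : Bst := .node 1 (.leaf 0x3000405420000000405660007000305290004000305b400010003056c0000000305b00008000204ef0004000200de0000000205b300070001054400030001064700010001055a00050000056d0004000006ac0003000005510000000005b5) (.node 2 (.leaf 0x3000d05360007000b05170006000b062b0000000b050b0007000901420003000905af00040008051a0000000801be0008000705a80004000700cb0001000605950007000505a90006000505b6000300050581000800040518000600040674) (.leaf 0x40018052a00070012058c0006000f065b0004000d0516))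

/-- The table lv3E. -/
def lv3E : Tab := ⟨lv3EB0, 48, 4⟩

def lv3PB0 : Bst := .node 14 (.node 7 (.leaf 0) (.node 10 (.leaf 0) (.node 12 (.leaf 0) (.node 13 (.leaf 0x1600000000000000000000000000000000000000000000) (.leaf 0x800000000000000000000000000000000000000000000000000000000))))) (.node 21 (.node 17 (.leaf 0) (.node 19 (.leaf 0) (.node 20 (.leaf 0) (.leaf 0x1b00000000)))) (.node 24 (.leaf 0) (.node 26 (.leaf 0) (.node 27 (.leaf 0) (.leaf 0x1800000000000000000000000000000000000000000000000000000000)))))

def lv3PB1 : Bst := .node 70 (.leaf 0) (.node 77 (.leaf 0) (.node 80 (.node 78 (.leaf 0) (.node 79 (.leaf 0x9000000000000000000000000000000000000000000000000000000000000) (.leaf 0))) (.node 82 (.node 81 (.leaf 0x1c00000000000000000000000000000000000000000000) (.leaf 0x1900000011001e0020000000000000000000000000)) (.node 83 (.leaf 0x23000d000000000000000000000000000000000000) (.leaf 0x1f000000000000000000000000)))))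

def lv3PB2 : Bst := .node 98 (.node 91 (.node 87 (.node 85 (.leaf 0x60000000f00000000) (.node 86 (.leaf 0x40000000000000000000000000000000000010000) (.leaf 0x3000b00000000000000000000000e000000000000000000000000))) (.node 89 (.node 88 (.leaf 0) (.leaf 0x22000000000000000000000000000000000000000000120000)) (.node 90 (.leaf 0x1500000000000000000000) (.leaf 0x1a000000000000000000000014001700000000000000000000000000000000)))) (.node 94 (.node 92 (.leaf 0x130000000c000700000000000a) (.leaf 0)) (.leaf 0))) (.node 105 (.node 101 (.node 99 (.leaf 0x1d00000000000000000000000000000000000000000000) (.node 100 (.leaf 0) (.leaf 0x50000000000000000000000000000))) (.node 103 (.node 102 (.leaf 0x2100000000000000000000000000000000000000000000) (.leaf 0)) (.node 104 (.leaf 0x100000000000000000) (.leaf 0)))) (.node 108 (.node 106 (.leaf 0) (.node 107 (.leaf 0x2000000000000000000000000000000000000000000000000) (.leaf 0))) (.leaf 0)))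

/-- The table lv3P. -/
def lv3P : Tab := ⟨(.node 56 (.node 28 lv3PB0 (.leaf 0)) (.node 84 lv3PB1 lv3PB2)), 16, 4⟩

/-- The words of `lv3`. -/
def lv3W : List (List ℕ) := [[1], [2], [4, 0, 4, 0], [3, 2, 1, 0], [0, 1, 2, 3], [0, 1, 3, 2, 3, 0, 1, 0], [4, 3, 2, 1, 0, 1, 2, 3, 4], [0, 1, 0, 1, 3, 2, 1, 0, 1, 0], [3, 4, 3, 2, 3, 2, 1, 2, 3, 2, 3, 4, 3]]

/-- An orbit of 36 points. -/
def lv3 : Orb := ⟨36, lv3E, lv3P⟩

end Cfsg.Agent.Spor.Cos.Suz
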