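import Cfsg.Agent.Lib.Spor.Cos.Orb

/-! Data and checks for a presented sporadic group. -/

set_option autoImplicit false
set_option maxRecDepth 100000
set_option maxHeartbeats 4000000

namespace Cfsg.Agent.Spor.Cos.Suz

def lv4EB0 : Bst := .node 1 (.leaf 0x3000a007e0000000a019100040009006600010008013b00010007017100010006015500010005000300000004010f00040003016300040002015400030002000700040001011000030001001a00000001008600010000006800000000002e) (.leaf 0x40011013e0003000e00a40004000c013f0003000c007f0000000b0182)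

/-- The table lv4E. -/
def lv4E : Tab := ⟨lv4EB0, 48, 4⟩

def lv4PB0 : Bst := .node 14 (.node 7 (.node 3 (.node 1 (.leaf 0x50000000000000009000000000000) (.node 2 (.leaf 0x30000000000000000000000000000000000000000) (.leaf 0))) (.node 5 (.leaf 0) (.node 6 (.leaf 0) (.leaf 0x10000000d000000000000000000000000)))) (.node 10 (.node 8 (.leaf 0x11000f00000000000000000000000000000000000000000000000000000000) (.node 9 (.leaf 0x2000000000000000000000000) (.leaf 0))) (.node 12 (.node 11 (.leaf 0x130000000000000000) (.leaf 0)) (.leaf 0)))) (.node 21 (.node 17 (.node 15 (.leaf 0) (.node 16 (.leaf 0) (.leaf 0x8000000000000000000000000000000000000000000000000000000000000))) (.node 19 (.node 18 (.leaf 0x4) (.leaf 0)) (.node 20 (.leaf 0x12001400000000000c00000000000000000000000000000000000000000000) (.leaf 0)))) (.node 24 (.node 22 (.leaf 0xa00060000000000000000) (.node 23 (.leaf 0x7000000000000) (.leaf 0xb0000))) (.node 26 (.node 25 (.leaf 0x1000000000) (.leaf 0xe0000)) (.leaf 0))))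

/-- The table lv4P. -/
def lv4P : Tab := ⟨(.node 56 (.node 28 lv4PB0 (.leaf 0)) (.leaf 0)), 16, 4⟩

/-- The words of `lv4`. -/
def lv4W : List (List ℕ) := [[1], [2], [4, 0, 4, 0], [4, 3, 2, 1, 0, 1, 2, 3, 4], [3, 4, 3, 2, 3, 2, 1, 2, 3, 2, 3, 4, 3]]

/-- An orbit of 21 points. -/
def lv4 : Orb := ⟨21, lv4E, lv4P⟩

end Cfsg.Agent.Spor.Cos.Suz
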