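import Cfsg.Agent.Lib.Spor.Cos.Orb

/-! Data and checks for a presented sporadic group. -/

set_option autoImplicit false
set_option maxRecDepth 100000
set_option maxHeartbeats 4000000

namespace Cfsg.Agent.Spor.Cos.Suz

def lv5EB0 : Bst := .leaf 0x300b600030002014e0003000100db000200010036000300000088000200000034000000000002000000000001

/-- The table lv5E. -/
def lv5E : Tab := ⟨lv5EB0, 48, 4⟩

def lv5PB0 : Bst := .node 14 (.node 7 (.node 3 (.node 1 (.leaf 0x100000000) (.leaf 0)) (.node 5 (.node 4 (.leaf 0x4000000020000000000000000) (.leaf 0)) (.leaf 0))) (.node 10 (.node 8 (.leaf 0) (.node 9 (.leaf 0x300000000000000000000000000000000) (.leaf 0))) (.node 12 (.node 11 (.leaf 0) (.leaf 0x7000000000000000000000000)) (.node 13 (.leaf 0) (.leaf 0x500000000000000000000000000000000000000000000))))) (.node 21 (.node 17 (.leaf 0) (.node 19 (.leaf 0) (.node 20 (.leaf 0) (.leaf 0x600000000000000000000000000000000000000000000000000000000)))) (.leaf 0))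

/-- The table lv5P. -/
def lv5P : Tab := ⟨(.node 56 (.node 28 lv5PB0 (.leaf 0)) (.leaf 0)), 16, 4⟩

/-- The words of `lv5`. -/
def lv5W : List (List ℕ) := [[1], [4, 0, 4, 0], [4, 3, 2, 1, 0, 1, 2, 3, 4], [3, 4, 3, 2, 3, 2, 1, 2, 3, 2, 3, 4, 3]]

/-- An orbit of 8 points. -/
def lv5 : Orb := ⟨8, lv5E, lv5P⟩

end Cfsg.Agent.Spor.Cos.Suz
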