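import Cfsg.Agent.Lib.Spor.Cos.Suz.Sa1Data
import Cfsg.Agent.Lib.Spor.Cos.Suz.ActAData

/-! Data and checks for a presented sporadic group. -/

set_option autoImplicit false
set_option maxRecDepth 100000
set_option maxHeartbeats 4000000

namespace Cfsg.Agent.Spor.Cos.Suz

theorem sa1_ents0 : allBlock (sa1.chkEnt actA sa1W 1) 1365 512 0 = true := by decide +kernel

theorem sa1_ents1 : allBlock (sa1.chkEnt actA sa1W 1) 1365 512 1 = true := by decide +kernel

theorem sa1_ents2 : allBlock (sa1.chkEnt actA sa1W 1) 1365 512 2 = true := by decide +kernel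


end Cfsg.Agent.Spor.Cos.Suz
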