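import Cfsg.Agent.Lib.Spor.Cos.Suz.Sa0Data
import Cfsg.Agent.Lib.Spor.Cos.Suz.Sa1Data

/-! Data and checks for a presented sporadic group. -/

set_option autoImplicit false
set_option maxRecDepth 100000
set_option maxHeartbeats 4000000

namespace Cfsg.Agent.Spor.Cos.Suz

/-- The suborbits. -/
def saList : List (Orb × ℕ) := [(sa0, 135), (sa1, 1)]

end Cfsg.Agent.Spor.Cos.Suz
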