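import Cfsg.Agent.Lib.Spor.Cos.Suz.Sh0Ent

/-! Data and checks for a presented sporadic group. -/

set_option autoImplicit false
set_option maxRecDepth 100000
set_option maxHeartbeats 4000000

namespace Cfsg.Agent.Spor.Cos.Suz

theorem sh0_ok : sh0.Ok actA sh0W 0 where
  letters := by decide +kernel
  pos := by decide +kernel
  ents := sh0_ents

end Cfsg.Agent.Spor.Cos.Suz
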