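import Cfsg.Agent.Lib.Spor.Cos.Orb

/-! Data and checks for a presented sporadic group. -/

set_option autoImplicit false
set_option maxRecDepth 100000
set_option maxHeartbeats 4000000

namespace Cfsg.Agent.Spor.Cos.Suz

def sh1EB0 : Bst := .node 2 (.node 1 (.leaf 0x30009040c00010009041400020008041800020007014500030006040b0001000604110002000504160000000506a00003000405d20002000304150001000306040002000204690000000205e50001000106a40004000006a50000000006f5) (.leaf 0x40014008700000014008c0001001300cc00040011040900020011008e0003001003ee0001001004120002000f00d00003000e040a0003000d041b0001000d04170001000c01430002000b00d10004000a04130003000a04050000000a0407)) (.node 3 (.leaf 0x4002600c90003002600fe0000002600df0001002201a70004001e00d90004001d00b80000001d00bd0004001b008d0003001b00bf0001001b00e00002001a00ce0003001904060001001801440002001701ac0002001600cf00030015041a) (.leaf 0x10035012c00010033012b0004003200f80004002e00dc0004002d00d70001002d00fd0004002900c80002002700be))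

/-- The table sh1E. -/
def sh1E : Tab := ⟨sh1EB0, 48, 4⟩

def sh1PB0 : Bst := .node 14 (.node 7 (.leaf 0) (.node 10 (.node 8 (.leaf 0) (.node 9 (.leaf 0x1b0028001e0000000000000000001f0000000000000000000000000000) (.leaf 0))) (.node 12 (.node 11 (.leaf 0) (.leaf 0x27003000290000000000000000002a00000000000000000000000000000000)) (.node 13 (.leaf 0x2100250000001d00000000002f003100000000000000000000000000000000) (.leaf 0x2d00000000003400000000002b000000330000000000000000000000130018))))) (.node 21 (.node 17 (.node 15 (.leaf 0x26) (.node 16 (.leaf 0x2e00320000000000000000003500000000000000000000000000000000) (.leaf 0))) (.node 19 (.node 18 (.leaf 0) (.leaf 0x37003600000000000000000000000000000000000000000000)) (.node 20 (.leaf 0) (.leaf 0xc00230014000000000000)))) (.node 24 (.leaf 0) (.node 26 (.leaf 0) (.node 27 (.leaf 0x220000000000000000002c0000000000000000000000000000) (.leaf 0)))))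

def sh1PB1 : Bst := .node 70 (.node 63 (.node 59 (.leaf 0) (.node 61 (.leaf 0) (.node 62 (.leaf 0) (.leaf 0x1a00000000000000000000000000000000000000000000000000000000)))) (.node 66 (.node 64 (.leaf 0) (.node 65 (.leaf 0xf000b0017001c000000100024001100000000000000000000) (.leaf 0x1600200000000d001500090006000e00120019000a0000))) (.leaf 0))) (.node 77 (.node 73 (.node 71 (.leaf 0x4000000000000000000000000000000000000) (.leaf 0)) (.leaf 0)) (.leaf 0))

def sh1PB2 : Bst := .node 98 (.node 91 (.leaf 0) (.node 94 (.node 92 (.leaf 0) (.node 93 (.leaf 0) (.leaf 0x700000000))) (.node 96 (.node 95 (.leaf 0x300000000000000000000) (.leaf 0)) (.node 97 (.leaf 0x50000000000000000) (.leaf 0))))) (.node 105 (.leaf 0) (.node 108 (.node 106 (.leaf 0) (.node 107 (.leaf 0x100020000000000000008) (.leaf 0))) (.leaf 0)))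

/-- The table sh1P. -/
def sh1P : Tab := ⟨(.node 56 (.node 28 sh1PB0 (.leaf 0)) (.node 84 sh1PB1 sh1PB2)), 16, 4⟩

/-- The words of `sh1`. -/
def sh1W : List (List ℕ) := [[0], [1], [2], [3], [5]]

/-- An orbit of 56 points. -/
def sh1 : Orb := ⟨56, sh1E, sh1P⟩

end Cfsg.Agent.Spor.Cos.Suz
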