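import Cfsg.Agent.Lib.Spor.Cos.Orb

/-! Data and checks for a presented sporadic group. -/

set_option autoImplicit false
set_option maxRecDepth 100000
set_option maxHeartbeats 4000000

namespace Cfsg.Agent.Spor.Cos.Suz

def sh2EB0 : Bst := .node 1 (.leaf 0x2000b008e0003000a001a00030009000700020008000900030007001d00000007001b00020006000600030005001e00010005001c00030003000500000003002500030002000400010002001f000200010003000300000002000000000001) (.node 2 (.leaf 0x3001b001200030019000d00030017001700030015001000010015001100030013000c00000013000e00030012002600010012001800030010003600000010000f0003000f00eb0001000f000b0002000e00190003000c00080001000c000a) (.leaf 0x3002100140003002000150002001f00130002001d0016))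

/-- The table sh2E. -/
def sh2E : Tab := ⟨sh2EB0, 48, 4⟩

def sh2PB0 : Bst := .node 11 (.node 5 (.node 2 (.node 1 (.leaf 0x150019001e001a00130010000c0011000d0009000600040002000100000000) (.leaf 0x30008000b0007000a000e00120017001d0020002200230021001f001b001c)) (.node 3 (.leaf 0x18000500000000000000000000) (.node 4 (.leaf 0x16000000000000000000000000) (.leaf 0)))) (.node 8 (.leaf 0) (.node 9 (.leaf 0xf00000000000000000000000000000000000000000000000000000000) (.leaf 0)))) (.node 16 (.node 13 (.leaf 0) (.node 14 (.leaf 0) (.node 15 (.leaf 0x1400000000000000000000000000000000000000000000) (.leaf 0)))) (.leaf 0))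

/-- The table sh2P. -/
def sh2P : Tab := ⟨(.node 715 (.node 357 (.node 178 (.node 89 (.node 44 (.node 22 sh2PB0 (.leaf 0)) (.leaf 0)) (.leaf 0)) (.leaf 0)) (.leaf 0)) (.leaf 0)), 16, 4⟩

/-- The words of `sh2`. -/
def sh2W : List (List ℕ) := [[0], [1], [2], [3]]

/-- An orbit of 36 points. -/
def sh2 : Orb := ⟨36, sh2E, sh2P⟩

end Cfsg.Agent.Spor.Cos.Suz
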