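import Cfsg.Agent.Lib.Spor.Cos.Orb

/-! Data and checks for a presented sporadic group. -/

set_option autoImplicit false
set_option maxRecDepth 100000
set_option maxHeartbeats 4000000

namespace Cfsg.Agent.Spor.Cos.Suz

def sh3EB0 : Bst := .leaf 0x1000b002d0000000a000e00010009001a00000008002600010007000900020006000700010005000a000200040008000000040003000200020018000100020004000200010006000000010005000100000002000000000001

/-- The table sh3E. -/
def sh3E : Tab := ⟨sh3EB0, 48, 4⟩

def sh3PB0 : Bst := .node 14 (.node 7 (.node 3 (.node 1 (.leaf 0xd0000000000000008000a000700090003000200040006000100000000) (.node 2 (.leaf 0xc0000000500000000000000000000000000000000) (.leaf 0xe000000000000000000000000000b000000000000000000000000))) (.leaf 0)) (.leaf 0)) (.leaf 0)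

/-- The table sh3P. -/
def sh3P : Tab := ⟨(.node 56 (.node 28 sh3PB0 (.leaf 0)) (.leaf 0)), 16, 4⟩

/-- The words of `sh3`. -/
def sh3W : List (List ℕ) := [[0], [1], [2]]

/-- An orbit of 15 points. -/
def sh3 : Orb := ⟨15, sh3E, sh3P⟩

end Cfsg.Agent.Spor.Cos.Suz
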