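import Cfsg.Agent.Lib.Spor.Cos.Suz.TopBEnt0
import Cfsg.Agent.Lib.Spor.Cos.Suz.TopBEnt1

/-! Data and checks for a presented sporadic group. -/

set_option autoImplicit false
set_option maxRecDepth 100000
set_option maxHeartbeats 4000000

namespace Cfsg.Agent.Spor.Cos.Suz

theorem topB_ents : ∀ i < 22880, (topB.chkEnt actB topBW 0) i = true :=
  of_blocks (size := 512) (b := 45) (by decide) (by decide) fun j hj => by
    interval_cases j
    · exact topB_ents0
    · exact topB_ents1
    · exact topB_ents2
    · exact topB_ents3
    · exact topB_ents4
    · exact topB_ents5
    · exact topB_ents6
    · exact topB_ents7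
    · exact topB_ents8
    · exact topB_ents9
    · exact topB_ents10
    · exact topB_ents11
    · exact topB_ents12
    · exact topB_ents13
    · exact topB_ents14
    · exact topB_ents15
    · exact topB_ents16
    · exact topB_ents17
    · exact topB_ents18
    · exact topB_ents19
    · exact topB_ents20
    · exact topB_ents21
    · exact topB_ents22
    · exact topB_ents23
    · exact topB_ents24
    · exact topB_ents25
    · exact topB_ents26
    · exact topB_ents27
    · exact topB_ents28
    · exact topB_ents29
    · exact topB_ents30
    · exact topB_ents31
    · exact topB_ents32
    · exact topB_ents33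
    · exact topB_ents34
    · exact topB_ents35
    · exact topB_ents36
    · exact topB_ents37
    · exact topB_ents38
    · exact topB_ents39
    · exact topB_ents40
    · exact topB_ents41
    · exact topB_ents42
    · exact topB_ents43
    · exact topB_ents44

end Cfsg.Agent.Spor.Cos.Suz
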